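import Groth.Agent.Lib.OmegaRank13.Regular
import Groth.Agent.Lib.Omega12.LocFree
import Groth.Agent.Lib.RankStratum13.Basic
import Groth.Agent.Lib.DimF18.Basic
import Groth.Agent.S1618
import Groth.Agent.Lib.SmoothFppf.Ring
import Groth.Agent.Lib.RegLoc.Basic

/-!
# Differentials of a variety and regularity
-/

set_option autoImplicit false
set_option backward.isDefEq.respectTransparency false
set_option backward.isDefEq.respectTransparency.types false
set_option linter.style.haveILetI false

universe u

open CategoryTheory CategoryTheory.Limits AlgebraicGeometry TopologicalSpace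

noncomputable section

namespace Groth.Agent.OmegaVar13

/-- Kähler differentials do not see a surjective change of base. -/
theorem bijective_map (R S A : Type u) [CommRing R] [CommRing S] [CommRing A] [Algebra R S] [Algebra R A]
    [Algebra S A] [IsScalarTower R S A] (h : Function.Surjective (algebraMap R S)) :
    Function.Bijective (KaehlerDifferential.map R S A A) := by
  refine ⟨?_, KaehlerDifferential.map_surjective R S A⟩
  rw [← LinearMap.ker_eq_bot, LinearMap.exact_iff.1 (KaehlerDifferential.exact_mapBaseChange_map R S A)]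
  haveI : Subsingleton Ω[S⁄R] := KaehlerDifferential.subsingleton_of_surjective R S h
  exact LinearMap.range_eq_bot.2 (LinearMap.ext fun x => by
    rw [Subsingleton.elim x 0, map_zero, map_zero])

variable {k : Type u} [Field k] {X : Scheme.{u}} [X.Over (Spec (CommRingCat.of k))]

/-- The algebra of sections of an affine open. -/
abbrev str (U : X.Opens) : k →+* Γ(X, U) :=
  ((X ↘ Spec (CommRingCat.of k)).appLE ⊤ U le_top).hom.comp (Scheme.ΓSpecIso (CommRingCat.of k)).inv.hom

variable [LocallyOfFiniteType (X ↘ Spec (CommRingCat.of k))]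
  {Ω : X.Modules} {d : OmegaSh.Der (X ↘ Spec (CommRingCat.of k)) Ω}

theorem finiteType_str {U : X.Opens} (hU : IsAffineOpen U) :
    letI := (str (k := k) U).toAlgebra
    Algebra.FiniteType k Γ(X, U) := by
  change (str (k := k) U).FiniteType
  exact RingHom.FiniteType.comp ((X ↘ Spec (CommRingCat.of k)).finiteType_appLE (isAffineOpen_top _) hU le_top)
    (RingHom.FiniteType.of_surjective _ (ConcreteCategory.bijective_of_isIso _).surjective)

theorem nonempty_sect (hd : OmegaSh.IsUniversal d) {U : X.Opens} (hU : IsAffineOpen U) :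
    letI := (str (k := k) U).toAlgebra
    Nonempty (Ω[Γ(X, U)⁄k] ≃ₗ[Γ(X, U)] Γ(Ω, U)) := by
  letI := ((X ↘ Spec (CommRingCat.of k)).appLE ⊤ U le_top).hom.toAlgebra
  letI : Algebra k Γ(Spec (CommRingCat.of k), ⊤) :=
    (Scheme.ΓSpecIso (CommRingCat.of k)).inv.hom.toAlgebra
  letI := (str (k := k) U).toAlgebra
  haveI : IsScalarTower k Γ(Spec (CommRingCat.of k), ⊤) Γ(X, U) := IsScalarTower.of_algebraMap_eq' rfl
  exact ⟨(LinearEquiv.ofBijective _ (bijective_map k Γ(Spec (CommRingCat.of k), ⊤) Γ(X, U)
    (ConcreteCategory.bijective_of_isIso (Scheme.ΓSpecIso (CommRingCat.of k)).inv).surjective)).trans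
      (Omega12.sectLinEquiv (X ↘ Spec (CommRingCat.of k)) hd hU (isAffineOpen_top _) le_top)⟩

variable [IrreducibleSpace ↥X]

theorem irreducible_and_dim (p : X ⟶ Spec (CommRingCat.of k)) [LocallyOfFiniteType p] {n : ℕ} (hn : topologicalKrullDim ↥X = (n : WithBot ℕ∞)) {U : X.Opens}
    (hU : IsAffineOpen U) (hne : (U : Set X).Nonempty) :
    (nilradical Γ(X, U)).IsPrime ∧ ringKrullDim Γ(X, U) = n := by
  letI : X.Over (Spec (CommRingCat.of k)) := ⟨p⟩
  haveI : LocallyOfFiniteType (X ↘ Spec (CommRingCat.of k)) := ‹LocallyOfFiniteType p›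
  haveI : Nonempty U := hne.to_subtype
  haveI : IrreducibleSpace U :=
    isIrreducible_iff_irreducibleSpace.1
      ((⟨hne, (IrreducibleSpace.isIrreducible_univ X).2.open_subset U.2 (Set.subset_univ _)⟩) : IsIrreducible (U : Set X))
  let e := hU.isoSpec.hom.homeomorph
  haveI : IrreducibleSpace (PrimeSpectrum Γ(X, U)) := by
    haveI : Nonempty (PrimeSpectrum Γ(X, U)) := ⟨e (Classical.arbitrary U)⟩
    have := (IrreducibleSpace.isIrreducible_univ U).image e e.continuous.continuousOn
    rw [Set.image_univ, e.surjective.range_eq] at this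
    haveI : PreirreducibleSpace (PrimeSpectrum Γ(X, U)) := ⟨this.2⟩
    exact ⟨inferInstance⟩
  refine ⟨PrimeSpectrum.irreducibleSpace_iff_isPrime_nilradical.1 inferInstance, ?_⟩
  rw [← PrimeSpectrum.topologicalKrullDim_eq_ringKrullDim, ← hn,
    ← Groth.Agent.S1618.result k X U hne]
  exact (IsHomeomorph.topologicalKrullDim_eq e e.isHomeomorph).symm

variable [IsAlgClosed k]

theorem regular_affine_iff (hd : OmegaSh.IsUniversal d) {n : ℕ} (hn : topologicalKrullDim ↥X = (n : WithBot ℕ∞))
    {U : X.Opens} (hU : IsAffineOpen U) (hne : (U : Set X).Nonempty) :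
    (∀ x ∈ U, IsRegularLocalRing (X.presheaf.stalk x)) ↔
      (Module.Projective Γ(X, U) Γ(Ω, U) ∧ ∀ (P : Ideal Γ(X, U)) [P.IsPrime],
        Module.finrank P.ResidueField (TensorProduct Γ(X, U) P.ResidueField Γ(Ω, U)) = n) := by
  letI := (str (k := k) U).toAlgebra
  haveI := finiteType_str (k := k) hU
  obtain ⟨hirr, hdim⟩ := irreducible_and_dim (X ↘ Spec (CommRingCat.of k)) hn hU hne
  obtain ⟨e⟩ := nonempty_sect hd hU
  haveI : IsNoetherianRing Γ(X, U) := Algebra.FiniteType.isNoetherianRing k _
  have key := OmegaRank13.regular_iff k Γ(X, U) hirr n hdim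
  have h1 : (∀ x ∈ U, IsRegularLocalRing (X.presheaf.stalk x)) ↔ (IsReduced Γ(X, U) ∧ IsRegularRing Γ(X, U)) := by
    constructor
    · intro h
      have hloc : ∀ (P : Ideal Γ(X, U)) [P.IsPrime], IsRegularLocalRing (Localization.AtPrime P) := by
        intro P _
        let z : PrimeSpectrum Γ(X, U) := ⟨P, inferInstance⟩
        have hzU : hU.fromSpec z ∈ U := hU.range_fromSpec.le ⟨z, rfl⟩
        letI := X.presheaf.algebra_section_stalk (⟨hU.fromSpec z, hzU⟩ : U)
        haveI := h _ hzU
        haveI := hU.isLocalization_stalk' z hzU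
        exact IsRegularLocalRing.of_ringEquiv
          (IsLocalization.algEquiv P.primeCompl (X.presheaf.stalk (hU.fromSpec z)) (Localization.AtPrime P)).toRingEquiv
      refine ⟨?_, ⟨fun P hP => hloc P⟩⟩
      refine isReduced_ofLocalizationMaximal _ fun P hP => ?_
      haveI := hloc P
      haveI := RegLoc.isDomain (Localization.AtPrime P)
      infer_instance
    · rintro ⟨-, hR⟩ x hx
      letI := X.presheaf.algebra_section_stalk (⟨x, hx⟩ : U)
      haveI := hU.isLocalization_stalk ⟨x, hx⟩
      haveI := IsRegularRing.isRegularLocalRing_localization (R := Γ(X, U)) (hU.primeIdealOf ⟨x, hx⟩).asIdeal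
      exact IsRegularLocalRing.of_ringEquiv
        (IsLocalization.algEquiv (hU.primeIdealOf ⟨x, hx⟩).asIdeal.primeCompl
          (Localization.AtPrime (hU.primeIdealOf ⟨x, hx⟩).asIdeal) (X.presheaf.stalk x)).toRingEquiv
  rw [h1, key]
  refine and_congr ⟨fun h => Module.Projective.of_equiv e, fun h => Module.Projective.of_equiv e.symm⟩ ?_
  refine forall_congr' fun P => forall_congr' fun _ => ?_
  rw [LinearEquiv.finrank_eq (TensorProduct.AlgebraTensorModule.congr (LinearEquiv.refl P.ResidueField P.ResidueField) e)]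

theorem main (hd : OmegaSh.IsUniversal d) {n : ℕ} (hn : topologicalKrullDim ↥X = (n : WithBot ℕ∞)) :
    FlatMod.IsFinLocFreeOfRank n Ω ↔ ∀ x : ↥X, IsRegularLocalRing ↑(X.presheaf.stalk x) := by
  have hq : Coh.IsQCoh Ω := Omega12.isQCoh_receptacle _ hd
  constructor
  · intro h x
    obtain ⟨O, hxO, ⟨e⟩⟩ := h x
    obtain ⟨U, hU, hxU, hUO⟩ := exists_isAffineOpen_mem_and_subset (X := X) (x := x) (U := O) hxO
    obtain ⟨b⟩ := RankStratum13.exists_basis_of_freeMod hq e hU hUO
    refine (regular_affine_iff hd hn hU ⟨x, hxU⟩).2 ⟨Module.Projective.of_basis b, fun P hP => ?_⟩ x hxU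
    rw [Module.finrank_eq_card_basis (b.baseChange P.ResidueField)]
    simp
  · intro h
    haveI : Smooth (X ↘ Spec (CommRingCat.of k)) := by
      rw [HasRingHomProperty.iff_appLE (P := @Smooth)]
      intro V U e
      have hV : V.1 = ⊤ ∨ (U.1 : Set X) = ∅ := by
        rcases Set.eq_empty_or_nonempty (U.1 : Set X) with hU | ⟨y, hy⟩
        · exact Or.inr hU
        · left
          refine TopologicalSpace.Opens.ext (Set.eq_univ_iff_forall.2 fun z => ?_)
          haveI : Subsingleton ↥(Spec (CommRingCat.of k)) := inferInstanceAs (Subsingleton (PrimeSpectrum k))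
          rw [Subsingleton.elim z ((X ↘ Spec (CommRingCat.of k)) y)]
          exact e hy
      rcases hV with hV | hU
      · obtain ⟨V, hVa⟩ := V
        subst hV
        letI := (str (k := k) U.1).toAlgebra
        haveI := finiteType_str (k := k) U.2
        haveI : Algebra.Smooth k Γ(X, U.1) := SmoothFppf.smooth_of_regular k _ fun q _ => by
          let z : PrimeSpectrum Γ(X, U.1) := ⟨q, inferInstance⟩
          have hzU : U.2.fromSpec z ∈ U.1 := U.2.range_fromSpec.le ⟨z, rfl⟩
          letI := X.presheaf.algebra_section_stalk (⟨U.2.fromSpec z, hzU⟩ : U.1)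
          haveI := h (U.2.fromSpec z)
          haveI := U.2.isLocalization_stalk' z hzU
          exact IsRegularLocalRing.of_ringEquiv
            (IsLocalization.algEquiv q.primeCompl (X.presheaf.stalk (U.2.fromSpec z)) (Localization.AtPrime q)).toRingEquiv
        have hs : (str (k := k) U.1).Smooth := RingHom.smooth_algebraMap.2 ‹_›
        have : ((X ↘ Spec (CommRingCat.of k)).appLE ⊤ U.1 e).hom =
            (str (k := k) U.1).comp (Scheme.ΓSpecIso (CommRingCat.of k)).hom.hom := by
          refine RingHom.ext fun a => ?_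
          change _ = ((X ↘ Spec (CommRingCat.of k)).appLE ⊤ U.1 le_top).hom
            ((Scheme.ΓSpecIso (CommRingCat.of k)).inv.hom ((Scheme.ΓSpecIso (CommRingCat.of k)).hom.hom a))
          rw [show (Scheme.ΓSpecIso (CommRingCat.of k)).inv.hom ((Scheme.ΓSpecIso (CommRingCat.of k)).hom.hom a) = a
            from (Scheme.ΓSpecIso (CommRingCat.of k)).hom_inv_id_apply a]
        rw [this]
        exact RingHom.Smooth.comp (RingHom.Smooth.of_bijective
          (ConcreteCategory.bijective_of_isIso (Scheme.ΓSpecIso (CommRingCat.of k)).hom)) hs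
      · haveI : Subsingleton Γ(X, U.1) := by
          rw [show U.1 = ⊥ from TopologicalSpace.Opens.ext hU]
          exact CommRingCat.subsingleton_of_isTerminal X.sheaf.isTerminalOfEmpty
        let φ := ((X ↘ Spec (CommRingCat.of k)).appLE V.1 U.1 e).hom
        letI := φ.toAlgebra
        refine RingHom.smooth_algebraMap.2 ?_
        infer_instance
    intro x
    obtain ⟨O, m, hxO, ⟨e⟩⟩ := Omega12.isFinLocFree_receptacle_of_smooth (X ↘ Spec (CommRingCat.of k)) hd x
    obtain ⟨U, hU, hxU, hUO⟩ := exists_isAffineOpen_mem_and_subset (X := X) (x := x) (U := O) hxO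
    obtain ⟨b⟩ := RankStratum13.exists_basis_of_freeMod hq e hU hUO
    have hm : m = n := by
      have h2 := ((regular_affine_iff hd hn hU ⟨x, hxU⟩).1 fun y _ => h y).2
        (hU.primeIdealOf ⟨x, hxU⟩).asIdeal
      rw [Module.finrank_eq_card_basis (b.baseChange _)] at h2
      simpa using h2
    subst hm
    exact ⟨O, hxO, ⟨e⟩⟩

end Groth.Agent.OmegaVar13
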